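import Groth.Agent.Stk19b.HilbCurve.AddPoint
import Groth.Agent.AlgSpLib.SmoothSource

/-!
# Smoothness of the Hilbert schemes of points of a relative curve
-/

set_option autoImplicit false
set_option backward.isDefEq.respectTransparency false
set_option backward.isDefEq.respectTransparency.types false

universe u

open CategoryTheory CategoryTheory.Limits AlgebraicGeometry
open Groth.Agent

namespace Groth.Agent.Stk19b.HilbCurve

variable {X S : Scheme.{u}} (f : X ⟶ S)

theorem finrank_eq_zero_of_isEmpty {A B : Scheme.{u}} (φ : A ⟶ B) [IsEmpty A] [Flat φ] [IsFinite φ] (y : B) :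
    φ.finrank y = 0 := by
  let g := B.fromSpecResidueField y
  obtain ⟨z⟩ : Nonempty (Spec (B.residueField y)) := inferInstance
  rw [← Scheme.fromSpecResidueField_apply y z, ← Scheme.Hom.finrank_pullback_snd φ g z]
  let k := B.residueField y
  have : IsEmpty (pullback φ g : Scheme.{u}) := Function.isEmpty (pullback.fst φ g)
  letI : Algebra k PUnit.{u + 1} := ((0 : k →+ PUnit.{u + 1}) |> fun _ =>
    ({ toFun := fun _ => PUnit.unit, map_one' := rfl, map_mul' := fun _ _ => rfl, map_zero' := rfl,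
       map_add' := fun _ _ => rfl } : k →+* PUnit.{u + 1})).toAlgebra
  let e : pullback φ g ⟶ Spec (CommRingCat.of PUnit.{u + 1}) := (isInitialOfIsEmpty).to _
  have : IsEmpty (Spec (CommRingCat.of PUnit.{u + 1})) := inferInstance
  have he : pullback.snd φ g = e ≫ Spec.map (CommRingCat.ofHom (algebraMap k PUnit.{u + 1})) :=
    isInitialOfIsEmpty.hom_ext _ _
  have : IsFinite (Spec.map (CommRingCat.ofHom (algebraMap k PUnit.{u + 1}))) := inferInstance
  have : Flat (Spec.map (CommRingCat.ofHom (algebraMap k PUnit.{u + 1}))) := inferInstance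
  have : IsIso e := inferInstance
  rw [he, Scheme.Hom.finrank_comp_left_of_isIso, Scheme.Hom.finrank_SpecMap_algebraMap]
  simp

theorem isIso_hom_zero (H : Over S) (Z : HilbD.Obj f 0 H) (hZ : HilbD.IsUniversal f 0 H Z) : IsIso H.hom := by
  have hsub : ∀ (T : Over S) (I J : HilbD.Obj f 0 T), I = J := by
    have key : ∀ (T : Over S) (I : HilbD.Obj f 0 T), I.1 = ⊤ := fun T I => by
      obtain ⟨⟨h1, h2, h3⟩, h4⟩ := I.2
      haveI := h1; haveI := h2; haveI := h3
      have : IsEmpty I.1.subscheme := ⟨fun z => by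
        have h := Scheme.Hom.one_le_finrank_map (I.1.subschemeι ≫ PicF.XTproj f T) z
        rw [h4] at h
        omega⟩
      rw [← I.1.ker_subschemeι]
      exact Scheme.Hom.ker_eq_top_iff_isEmpty _ |>.2 ‹_›
    exact fun T I J => Subtype.ext ((key T I).trans (key T J).symm)
  have hempty : ∀ T : Over S, Mor2.IsFinLocFreeOfDeg 0
      ((⊤ : (PicF.XT f T).IdealSheafData).subschemeι ≫ PicF.XTproj f T) := fun T => by
    have : IsEmpty (⊤ : (PicF.XT f T).IdealSheafData).subscheme := by
      have : IsEmpty ((⊤ : (PicF.XT f T).IdealSheafData).support : Set (PicF.XT f T)) := by simp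
      rw [← Scheme.IdealSheafData.range_subschemeι] at this
      exact Function.isEmpty (fun z => (⟨_, z, rfl⟩ :
        Set.range (⊤ : (PicF.XT f T).IdealSheafData).subschemeι))
    exact ⟨⟨inferInstance, inferInstance, inferInstance⟩, fun y => finrank_eq_zero_of_isEmpty _ y⟩
  obtain ⟨g, hg, -⟩ := hZ (Over.mk (𝟙 S)) ⟨⊤, hempty _⟩
  refine ⟨g.left, ?_, Over.w g⟩
  have : Over.homMk H.hom ≫ g = 𝟙 H := (hZ H Z).unique
    (congrArg Subtype.val (hsub H ⟨_, HilbSh8.isFinLocFreeOfDeg_pull f _ Z.2⟩ Z))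
    (congrArg Subtype.val (hsub H ⟨_, HilbSh8.isFinLocFreeOfDeg_pull f _ Z.2⟩ Z))
  exact congrArg (fun h => h.left) this

variable [IsSeparated f] [SmoothOfRelativeDimension 1 f]

theorem smooth_hilb (hrep : ∀ e : ℕ, HilbD.Representable f e) :
    ∀ (d : ℕ) (H : Over S) (Z : HilbD.Obj f d H), HilbD.IsUniversal f d H Z → Smooth H.hom := by
  intro d
  induction d with
  | zero => intro H Z hZ; have := isIso_hom_zero f H Z hZ; infer_instance
  | succ d ih =>
    intro H' Z' hZ'
    obtain ⟨H, Z, hZ⟩ := hrep d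
    have := ih H Z hZ
    let P : Over S := Over.mk (pullback.fst H.hom f ≫ H.hom)
    let π₁ : P ⟶ H := Over.homMk (pullback.fst H.hom f) rfl
    obtain ⟨m, hm, -⟩ := hZ' P ⟨_, DivCurve29.mul_isDiv (PicF.XTproj f P) (HilbSh8.isFinLocFreeOfDeg_pull f π₁ Z.2)
      (isFinLocFreeOfDeg_secGraph f P (pullback.snd H.hom f) pullback.condition.symm)⟩
    obtain ⟨⟨h1, h2, h3⟩, h4⟩ := addPoint_finLocFree f d H Z hZ H' Z' hZ' m hm
    haveI := h1; haveI := h2; haveI := h3
    haveI : Surjective m.left := Scheme.Hom.one_le_finrank_iff_surjective _ |>.1 fun y => by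
      rw [h4 y]; exact Nat.succ_le_succ (Nat.zero_le d)
    refine AlgSpLib.smooth_of_comp_fppf m.left H'.hom ?_
    have e : m.left ≫ H'.hom = P.hom := Over.w m
    rw [e]
    have : Smooth f := SmoothOfRelativeDimension.smooth 1 f
    show Smooth (pullback.fst H.hom f ≫ H.hom)
    infer_instance

end Groth.Agent.Stk19b.HilbCurve
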