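import Groth.Prelude.Def_Curve
import Groth.Agent.Stk19b.HilbCurve.Smooth
import Groth.Agent.Unram17Lib.RelDim
import Groth.Agent.GenSmoothLib.SmoothDim
import Groth.Agent.VarietyLib.CurveCompletion
import Groth.Agent.Stk19b.HilbPts.Main
import Groth.Agent.Stk19b.HilbPts.Cover
import Groth.Agent.S7388

/-!
# Hilbert schemes of points of smooth proper curves over fields
-/

set_option autoImplicit false
set_option backward.isDefEq.respectTransparency false
set_option backward.isDefEq.respectTransparency.types false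

universe u

open CategoryTheory CategoryTheory.Limits AlgebraicGeometry
open Groth.Agent

namespace Groth.Agent.Stk19b.HilbCurve

variable {k : Type u} [Field k] {X : Scheme.{u}} (f : X ⟶ Spec (CommRingCat.of k))

theorem smoothOfRelativeDimension_one [Smooth f] [IrreducibleSpace X] (hdim : topologicalKrullDim X = 1) :
    SmoothOfRelativeDimension 1 f := by
  choose V n hxV hn using fun x => Unram17Lib.exists_smoothOfRelativeDimension f x
  have h1 : ∀ x, n x = 1 := fun x => by
    have := hn x
    have h := Unram17Lib.localDim_of_smoothOfRelativeDimension k ((V x).ι ≫ f) (n x) ⟨x, hxV x⟩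
    have := (V x).ι.isOpenEmbedding.quasiSober
    rw [AlgSpLib.localDim_eq_of_map (V x).ι.continuous (V x).ι.isOpenEmbedding.isOpenMap
      (V x).ι.isOpenEmbedding.generalizingMap (fun a a' _ e => (V x).ι.isOpenEmbedding.injective e) _] at h
    have h2 := GenSmoothLib.localDim_eq_topologicalKrullDim f ((V x).ι ⟨x, hxV x⟩)
    rw [h, hdim] at h2
    exact_mod_cast h2
  refine IsZariskiLocalAtSource.of_iSup_eq_top (P := @SmoothOfRelativeDimension 1) V ?_ fun x => ?_
  · exact eq_top_iff.2 fun x _ => TopologicalSpace.Opens.mem_iSup.2 ⟨x, hxV x⟩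
  · have := hn x
    rwa [h1 x] at this

theorem exists_affineOpen_of_finite [IsProper f] [IsIntegral X] (hdim : topologicalKrullDim X = 1) (E : Set X)
    (hE : E.Finite) : ∃ U : X.Opens, IsAffineOpen U ∧ E ⊆ U := by
  letI : X.Over (Spec (CommRingCat.of k)) := ⟨f⟩
  haveI : IsProper (X ↘ Spec (CommRingCat.of k)) := ‹IsProper f›
  rcases VarietyLib.curve_affine_or_projective k X f hdim with h | ⟨d, c, hc, -⟩
  · exact ⟨⊤, isAffineOpen_top X, fun _ _ => trivial⟩
  · haveI : IsImmersion c := inferInstance
    exact S7388.result _ c E hE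

theorem exists_proper_smooth_hilb (hX : Curve.IsSmoothProperCurve k X f) (d : ℕ) :
    ∃ (H : Over (Spec (CommRingCat.of k))) (Z : HilbD.Obj f d H),
      HilbD.IsUniversal f d H Z ∧ IsProper H.hom ∧ Smooth H.hom := by
  obtain ⟨hp, hs, hi, hdim⟩ := hX
  haveI := hp; haveI := hs; haveI := hi
  haveI := smoothOfRelativeDimension_one f hdim
  have hrep : ∀ e : ℕ, HilbD.Representable f e := fun e => HilbPts.representable_of_affine_sets e fun s x _ => by
    obtain ⟨U, hU, hsub⟩ := exists_affineOpen_of_finite f hdim (Set.range x) (Set.finite_range x)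
    exact ⟨U, hU, fun i => hsub ⟨i, rfl⟩⟩
  have key : ∀ (e : ℕ) (H : Over (Spec (CommRingCat.of k))) (Z : HilbD.Obj f e H),
      HilbD.IsUniversal f e H Z → IsProper H.hom := by
    intro e
    induction e with
    | zero => intro H Z hZ; have := isIso_hom_zero f H Z hZ; infer_instance
    | succ e ih =>
      intro H' Z' hZ'
      obtain ⟨H, Z, hZ⟩ := hrep e
      have := ih H Z hZ
      let P : Over (Spec (CommRingCat.of k)) := Over.mk (pullback.fst H.hom f ≫ H.hom)
      let π₁ : P ⟶ H := Over.homMk (pullback.fst H.hom f) rfl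
      obtain ⟨m, hm, -⟩ := hZ' P ⟨_, DivCurve29.mul_isDiv (PicF.XTproj f P) (HilbSh8.isFinLocFreeOfDeg_pull f π₁ Z.2)
        (isFinLocFreeOfDeg_secGraph f P (pullback.snd H.hom f) pullback.condition.symm)⟩
      obtain ⟨⟨h1, h2, h3⟩, h4⟩ := addPoint_finLocFree f e H Z hZ H' Z' hZ' m hm
      haveI := h1; haveI := h2; haveI := h3
      haveI : Surjective m.left := Scheme.Hom.one_le_finrank_iff_surjective _ |>.1 fun y => by
        rw [h4 y]; exact Nat.succ_le_succ (Nat.zero_le e)
      haveI : IsSeparated H'.hom := HilbSh8.isSeparated_of_isUniversal f H' Z' hZ'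
      haveI : Smooth H'.hom := smooth_hilb f hrep _ H' Z' hZ'
      haveI : IsProper (m.left ≫ H'.hom) := by
        rw [Over.w m]
        show IsProper (pullback.fst H.hom f ≫ H.hom)
        infer_instance
      haveI : UniversallyClosed H'.hom := UniversallyClosed.of_comp_surjective m.left H'.hom
      exact ⟨⟩
  obtain ⟨H, Z, hZ⟩ := hrep d
  exact ⟨H, Z, hZ, key d H Z hZ, smooth_hilb f hrep d H Z hZ⟩

end Groth.Agent.Stk19b.HilbCurve
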