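import Groth.Prelude.Def_HilbD
import Groth.Agent.HilbSh8.Locus
import Groth.Agent.DivCurve29.Divisor

/-!
# Adding a point to a divisor on a relative curve
-/

set_option autoImplicit false
set_option backward.isDefEq.respectTransparency false
set_option backward.isDefEq.respectTransparency.types false

universe u

open CategoryTheory CategoryTheory.Limits AlgebraicGeometry
open Groth.Agent

namespace Groth.Agent.Stk19b.HilbCurve

variable {X S : Scheme.{u}} (f : X ⟶ S)

theorem pull_mul {T T' : Over S} (g : T' ⟶ T) (I J : (PicF.XT f T).IdealSheafData) :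
    HilbD.pull f g (I * J) = HilbD.pull f g I * HilbD.pull f g J := by
  simp only [HilbSh8.pull_eq_comap, ModPairLib.comap_mul]

/-- The graph of a point. -/
noncomputable def graph (T : Over S) (x : T.left ⟶ X) (hx : x ≫ f = T.hom) : T.left ⟶ PicF.XT f T :=
  pullback.lift x (𝟙 T.left) (by simpa using hx)

theorem graph_fst (T : Over S) (x : T.left ⟶ X) (hx : x ≫ f = T.hom) :
    graph f T x hx ≫ pullback.fst f T.hom = x := pullback.lift_fst _ _ _

theorem graph_snd (T : Over S) (x : T.left ⟶ X) (hx : x ≫ f = T.hom) :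
    graph f T x hx ≫ PicF.XTproj f T = 𝟙 _ := pullback.lift_snd _ _ _

theorem secGraph_eq (T : Over S) (x : T.left ⟶ X) (hx : x ≫ f = T.hom) :
    HilbD.secGraph f T x hx = (graph f T x hx).ker := rfl

variable [IsSeparated f]

theorem isClosedImmersion_graph (T : Over S) (x : T.left ⟶ X) (hx : x ≫ f = T.hom) :
    IsClosedImmersion (graph f T x hx) := by
  have : IsClosedImmersion (graph f T x hx ≫ PicF.XTproj f T) := by rw [graph_snd]; infer_instance
  exact IsClosedImmersion.of_comp (graph f T x hx) (PicF.XTproj f T)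

theorem isFinLocFreeOfDeg_secGraph (T : Over S) (x : T.left ⟶ X) (hx : x ≫ f = T.hom) :
    Mor2.IsFinLocFreeOfDeg 1 ((HilbD.secGraph f T x hx).subschemeι ≫ PicF.XTproj f T) := by
  have := isClosedImmersion_graph f T x hx
  rw [secGraph_eq]
  haveI : IsIso ((graph f T x hx).ker.subschemeι ≫ PicF.XTproj f T) := by
    have h : (graph f T x hx).toImage ≫ ((graph f T x hx).ker.subschemeι ≫ PicF.XTproj f T) = 𝟙 _ := by
      rw [← Category.assoc]
      exact ((graph f T x hx).toImage_imageι_assoc _).trans (graph_snd f T x hx)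
    exact IsIso.of_isIso_fac_left h
  exact ⟨⟨inferInstance, inferInstance, inferInstance⟩, fun y => congrFun (Scheme.Hom.finrank_eq_one_of_isIso _) y⟩

theorem pull_secGraph {T T' : Over S} (g : T' ⟶ T) (x : T.left ⟶ X) (hx : x ≫ f = T.hom) (x' : T'.left ⟶ X)
    (hx' : x' ≫ f = T'.hom) (h : g.left ≫ x = x') :
    HilbD.pull f g (HilbD.secGraph f T x hx) = HilbD.secGraph f T' x' hx' := by
  subst h
  have := isClosedImmersion_graph f T x hx
  have sq : IsPullback (graph f T' (g.left ≫ x) hx') g.left (PicF.XTmap f g) (graph f T x hx) := by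
    refine (IsPullback.of_bot (h₂₁ := PicF.XTmap f g) (v₂₁ := PicF.XTproj f T') (v₂₂ := PicF.XTproj f T)
      (h₃₁ := g.left) ?_ (by
        apply pullback.hom_ext <;> simp [graph, PicF.XTmap] <;> exact (Category.id_comp _).symm) (HilbSh8.isPullback_XTmap f g)).flip
    rw [graph_snd, graph_snd]
    exact IsPullback.of_vert_isIso ⟨by simp⟩
  rw [HilbSh8.pull_eq_comap, secGraph_eq, secGraph_eq,
    ← Scheme.IdealSheafData.ker_fst_of_isClosedImmersion (graph f T x hx) (PicF.XTmap f g),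
    ← sq.isoPullback_hom_fst, Scheme.Hom.ker_comp_of_isIso]

omit [IsSeparated f] in
theorem comap_le_bot_iff {A B : Scheme.{u}} (σ : A ⟶ B) (I : B.IdealSheafData) :
    I.comap σ ≤ ⊥ ↔ I ≤ σ.ker := by
  rw [← Scheme.IdealSheafData.map_bot σ, Scheme.IdealSheafData.le_map_iff_comap_le]

variable [SmoothOfRelativeDimension 1 f]

instance smooth_XTproj (T : Over S) : SmoothOfRelativeDimension 1 (PicF.XTproj f T) :=
  have := smoothOfRelativeDimension_isStableUnderBaseChange 1
  MorphismProperty.pullback_snd (P := @SmoothOfRelativeDimension 1) f T.hom ‹_›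

/-- Cancellation of a point in a sum of divisors. -/
theorem mul_secGraph_cancel {T : Over S} {I J : (PicF.XT f T).IdealSheafData} (x : T.left ⟶ X) (hx : x ≫ f = T.hom)
    (h : I * HilbD.secGraph f T x hx = J * HilbD.secGraph f T x hx) : I = J :=
  ModPairLib.eq_of_mul_eq_mul (DivCurve29.isEffCartier (PicF.XTproj f T) _
    (isFinLocFreeOfDeg_secGraph f T x hx).1) h

/-- Adding a point is finite locally free of degree one more. -/
theorem addPoint_finLocFree (d : ℕ) (H : Over S) (Z : HilbD.Obj f d H) (hZ : HilbD.IsUniversal f d H Z)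
    (H' : Over S) (Z' : HilbD.Obj f (d + 1) H') (hZ' : HilbD.IsUniversal f (d + 1) H' Z')
    (m : Over.mk (pullback.fst H.hom f ≫ H.hom) ⟶ H')
    (hm : HilbD.pull f m Z'.1 =
      HilbD.pull f (Over.homMk (pullback.fst H.hom f) rfl : Over.mk (pullback.fst H.hom f ≫ H.hom) ⟶ H) Z.1 *
        HilbD.secGraph f (Over.mk (pullback.fst H.hom f ≫ H.hom)) (pullback.snd H.hom f) pullback.condition.symm) :
    Mor2.IsFinLocFreeOfDeg (d + 1) m.left := by
  let P : Over S := Over.mk (pullback.fst H.hom f ≫ H.hom)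
  let π₁ : P ⟶ H := Over.homMk (pullback.fst H.hom f) rfl
  let x₂ : P.left ⟶ X := pullback.snd H.hom f
  have hx₂ : x₂ ≫ f = P.hom := pullback.condition.symm
  let ι := Z'.1.subschemeι
  let W : Over S := Over.mk ((ι ≫ PicF.XTproj f H') ≫ H'.hom)
  let q : W ⟶ H' := Over.homMk (ι ≫ PicF.XTproj f H') rfl
  let xW : W.left ⟶ X := ι ≫ pullback.fst f H'.hom
  have hxW : xW ≫ f = W.hom := by simp [xW, W, PicF.XTproj, pullback.condition]
  let A := HilbD.pull f q Z'.1
  let K := HilbD.secGraph f W xW hxW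
  have hA : Mor2.IsFinLocFreeOfDeg (d + 1) (A.subschemeι ≫ PicF.XTproj f W) :=
    HilbSh8.isFinLocFreeOfDeg_pull f q Z'.2
  have hgι : graph f W xW hxW ≫ PicF.XTmap f q = ι := by
    apply pullback.hom_ext <;> simp [graph, PicF.XTmap, xW, q, PicF.XTproj] <;> exact Category.id_comp _
  have hAK : A ≤ K := by
    refine (comap_le_bot_iff (graph f W xW hxW) A).1 ?_
    show Scheme.IdealSheafData.comap (HilbD.pull f q Z'.1) _ ≤ ⊥
    rw [HilbSh8.pull_eq_comap, ← Scheme.IdealSheafData.comap_comp, hgι]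
    refine (comap_le_bot_iff _ _).2 ?_
    rw [Scheme.IdealSheafData.ker_subschemeι]
  obtain ⟨K₁, hK₁, hAeq⟩ := DivCurve29.exists_residual (PicF.XTproj f W) hAK (isFinLocFreeOfDeg_secGraph f W xW hxW) hA
  rw [Nat.add_sub_cancel] at hK₁
  obtain ⟨g, hg, -⟩ := hZ W ⟨K₁, hK₁⟩
  let n : W ⟶ P := Over.homMk (pullback.lift g.left xW ((Over.w g).trans hxW.symm)) (by simp [P, Over.w g])
  have hn₁ : n ≫ π₁ = g := Over.OverMorphism.ext (pullback.lift_fst _ _ _)
  have hn₂ : n.left ≫ x₂ = xW := pullback.lift_snd _ _ _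
  have hnm : n ≫ m = q := by
    refine (hZ' W ⟨A, hA⟩).unique ?_ rfl
    rw [← HilbSh8.pull_pull, hm, pull_mul, HilbSh8.pull_pull, pull_secGraph f n _ _ xW hxW hn₂, hn₁, hg]
    exact (mul_comm _ _).trans hAeq.symm
  have hfac : Z'.1.subschemeι.ker ≤ (graph f P x₂ hx₂ ≫ PicF.XTmap f m).ker := by
    rw [Scheme.IdealSheafData.ker_subschemeι]
    refine (comap_le_bot_iff _ _).1 ?_
    rw [Scheme.IdealSheafData.comap_comp, ← HilbSh8.pull_eq_comap, hm]
    exact (comap_le_bot_iff _ _).2 (DivCurve29.mul_le_right' _ _)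
  let k₀ : P.left ⟶ W.left := IsClosedImmersion.lift ι (graph f P x₂ hx₂ ≫ PicF.XTmap f m) hfac
  have hk₀ : k₀ ≫ ι = graph f P x₂ hx₂ ≫ PicF.XTmap f m := IsClosedImmersion.lift_fac _ _ _
  have hk₀q : k₀ ≫ ι ≫ PicF.XTproj f H' = m.left := by
    rw [reassoc_of% hk₀]
    simp [graph, PicF.XTmap, PicF.XTproj]
    exact Category.id_comp _
  let k : P ⟶ W := Over.homMk k₀ (by
    show k₀ ≫ (ι ≫ PicF.XTproj f H') ≫ H'.hom = P.hom
    rw [← Category.assoc k₀, hk₀q]; exact Over.w m)
  have hkq : k ≫ q = m := Over.OverMorphism.ext hk₀q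
  have hkx : k.left ≫ xW = x₂ := by
    show k₀ ≫ ι ≫ pullback.fst f H'.hom = x₂
    rw [reassoc_of% hk₀]
    simp [graph, PicF.XTmap]
  have hkg : k ≫ g = π₁ := by
    refine (hZ P ⟨HilbD.pull f π₁ Z.1, HilbSh8.isFinLocFreeOfDeg_pull f π₁ Z.2⟩).unique ?_ rfl
    show HilbD.pull f (k ≫ g) Z.1 = HilbD.pull f π₁ Z.1
    refine mul_secGraph_cancel f x₂ hx₂ ?_
    rw [← HilbSh8.pull_pull, hg, ← pull_secGraph f k xW hxW x₂ hx₂ hkx, ← pull_mul, mul_comm K₁, ← hAeq,
      HilbSh8.pull_pull, hkq, hm]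
    congr 1
    exact (pull_secGraph f k xW hxW x₂ hx₂ hkx).symm
  have hkn : k ≫ n = 𝟙 P := by
    apply Over.OverMorphism.ext
    apply pullback.hom_ext
    · have := congrArg (fun h => h.left) hkg
      simpa [n, π₁] using this
    · simpa [n] using hkx
  have hnk : n.left ≫ k.left = 𝟙 _ := by
    show n.left ≫ k₀ = 𝟙 _
    rw [← cancel_mono ι, Category.assoc, hk₀, Category.id_comp]
    apply pullback.hom_ext
    · simpa [graph, PicF.XTmap] using hn₂
    · have := congrArg (fun h => h.left) hnm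
      simp [graph, PicF.XTmap, q, PicF.XTproj] at this ⊢
      exact (congrArg (n.left ≫ ·) (Category.id_comp _)).trans this
  have : IsIso k.left := ⟨n.left, congrArg (fun h => h.left) hkn, hnk⟩
  obtain ⟨⟨h1, h2, h3⟩, h4⟩ := Z'.2
  haveI := h1; haveI := h2; haveI := h3
  rw [← hkq]
  show Mor2.IsFinLocFreeOfDeg (d + 1) (k.left ≫ ι ≫ PicF.XTproj f H')
  exact ⟨⟨inferInstance, inferInstance, inferInstance⟩, fun y => by
    rw [Scheme.Hom.finrank_comp_left_of_isIso]; exact h4 y⟩

end Groth.Agent.Stk19b.HilbCurve
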