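import Groth.Agent.Stk19b.HilbCurve.Smooth

/-!
# Divisors on relative curves become sums of sections
-/

set_option autoImplicit false
set_option backward.isDefEq.respectTransparency false
set_option backward.isDefEq.respectTransparency.types false

universe u

open CategoryTheory CategoryTheory.Limits AlgebraicGeometry
open Groth.Agent

namespace Groth.Agent.Stk19b.HilbCurve

variable {X S : Scheme.{u}} (f : X ⟶ S) [IsSeparated f] [SmoothOfRelativeDimension 1 f]

theorem exists_split : ∀ (d : ℕ) (T : Over S) (J : (PicF.XT f T).IdealSheafData),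
    Mor2.IsFinLocFreeOfDeg d (J.subschemeι ≫ PicF.XTproj f T) →
    ∃ (T' : Over S) (g : T' ⟶ T) (_ : Flat g.left) (_ : Surjective g.left) (_ : LocallyOfFinitePresentation g.left)
      (x : Fin d → (T'.left ⟶ X)) (hx : ∀ i, x i ≫ f = T'.hom),
      HilbD.pull f g J = ∏ i, HilbD.secGraph f T' (x i) (hx i) := by
  intro d
  induction d with
  | zero =>
    intro T J hJ
    refine ⟨T, 𝟙 T, ?_, ?_, ?_, Fin.elim0, fun i => i.elim0, ?_⟩
    · exact inferInstanceAs (Flat (𝟙 T.left))
    · exact inferInstanceAs (Surjective (𝟙 T.left))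
    · exact inferInstanceAs (LocallyOfFinitePresentation (𝟙 T.left))
    · obtain ⟨⟨h1, h2, h3⟩, h4⟩ := HilbSh8.isFinLocFreeOfDeg_pull f (𝟙 T) hJ
      haveI := h1; haveI := h2; haveI := h3
      have : IsEmpty (HilbD.pull f (𝟙 T) J).subscheme := ⟨fun z => by
        have h := Scheme.Hom.one_le_finrank_map ((HilbD.pull f (𝟙 T) J).subschemeι ≫ PicF.XTproj f T) z
        rw [h4] at h
        omega⟩
      rw [Finset.univ_eq_empty, Finset.prod_empty, Scheme.IdealSheafData.one_eq_top,
        ← (HilbD.pull f (𝟙 T) J).ker_subschemeι]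
      exact Scheme.Hom.ker_eq_top_iff_isEmpty _ |>.2 ‹_›
  | succ d ih =>
    intro T J hJ
    let ι := J.subschemeι
    let W : Over S := Over.mk ((ι ≫ PicF.XTproj f T) ≫ T.hom)
    let q : W ⟶ T := Over.homMk (ι ≫ PicF.XTproj f T) rfl
    let xW : W.left ⟶ X := ι ≫ pullback.fst f T.hom
    have hxW : xW ≫ f = W.hom := by simp [xW, W, PicF.XTproj, pullback.condition]
    have hA := HilbSh8.isFinLocFreeOfDeg_pull f q hJ
    have hgι : graph f W xW hxW ≫ PicF.XTmap f q = ι := by
      apply pullback.hom_ext <;> simp [graph, PicF.XTmap, xW, q, PicF.XTproj] <;> exact Category.id_comp _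
    have hAK : HilbD.pull f q J ≤ HilbD.secGraph f W xW hxW := by
      refine (comap_le_bot_iff (graph f W xW hxW) _).1 ?_
      rw [HilbSh8.pull_eq_comap, ← Scheme.IdealSheafData.comap_comp, hgι]
      refine (comap_le_bot_iff _ _).2 ?_
      rw [Scheme.IdealSheafData.ker_subschemeι]
    obtain ⟨K₁, hK₁, hAeq⟩ := DivCurve29.exists_residual (PicF.XTproj f W) hAK
      (isFinLocFreeOfDeg_secGraph f W xW hxW) hA
    rw [Nat.add_sub_cancel] at hK₁
    obtain ⟨T', g, hg1, hg2, hg3, x, hx, hxeq⟩ := ih W K₁ hK₁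
    obtain ⟨⟨h1, h2, h3⟩, h4⟩ := hJ
    haveI := h1; haveI := h2; haveI := h3
    haveI : Surjective (ι ≫ PicF.XTproj f T) := Scheme.Hom.one_le_finrank_iff_surjective _ |>.1 fun y => by
      rw [h4 y]; exact Nat.succ_le_succ (Nat.zero_le d)
    have hx0 : (g.left ≫ xW) ≫ f = T'.hom := by rw [Category.assoc, hxW, Over.w g]
    refine ⟨T', g ≫ q, ?_, ?_, ?_, Fin.cons (g.left ≫ xW) x, Fin.cases hx0 hx, ?_⟩
    · show Flat (g.left ≫ ι ≫ PicF.XTproj f T); infer_instance
    · show Surjective (g.left ≫ ι ≫ PicF.XTproj f T); infer_instance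
    · show LocallyOfFinitePresentation (g.left ≫ ι ≫ PicF.XTproj f T); infer_instance
    · rw [← HilbSh8.pull_pull, hAeq, pull_mul, hxeq, pull_secGraph f g xW hxW _ hx0 rfl, Fin.prod_univ_succ]
      rfl

omit [SmoothOfRelativeDimension 1 f] [IsSeparated f] in
theorem isFinLocFreeOfDeg_comap {d : ℕ} (I : X.IdealSheafData) (h : Mor2.IsFinLocFreeOfDeg d (I.subschemeι ≫ f))
    (T : Over S) : Mor2.IsFinLocFreeOfDeg d ((I.comap (pullback.fst f T.hom)).subschemeι ≫ PicF.XTproj f T) := by
  have sq := ((IsPullback.of_hasPullback (pullback.fst f T.hom) I.subschemeι).flip).paste_vert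
    (IsPullback.of_hasPullback f T.hom)
  have he : (I.comap (pullback.fst f T.hom)).subschemeι ≫ PicF.XTproj f T =
      (I.comapIso (pullback.fst f T.hom)).hom ≫ pullback.fst (pullback.fst f T.hom) I.subschemeι ≫
        PicF.XTproj f T := by
    rw [← Category.assoc (I.comapIso (pullback.fst f T.hom)).hom]
    congr 1
    exact (Scheme.IdealSheafData.comapIso_hom_fst I (pullback.fst f T.hom)).symm
  obtain ⟨⟨h1, h2, h3⟩, h4⟩ := h
  haveI := h1; haveI := h2; haveI := h3
  haveI : IsFinite (pullback.fst (pullback.fst f T.hom) I.subschemeι ≫ PicF.XTproj f T) :=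
    MorphismProperty.of_isPullback sq h1
  haveI : Flat (pullback.fst (pullback.fst f T.hom) I.subschemeι ≫ PicF.XTproj f T) :=
    MorphismProperty.of_isPullback sq h2
  haveI : LocallyOfFinitePresentation (pullback.fst (pullback.fst f T.hom) I.subschemeι ≫ PicF.XTproj f T) :=
    MorphismProperty.of_isPullback sq h3
  refine ⟨⟨?_, ?_, ?_⟩, fun y => ?_⟩
  · rw [he]; infer_instance
  · rw [he]; infer_instance
  · rw [he]; infer_instance
  · rw [he, Scheme.Hom.finrank_comp_left_of_isIso, Scheme.Hom.finrank_of_isPullback _ _ _ _ sq y]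
    exact h4 _

/-- A relative divisor of degree `d` becomes a sum of `d` sections after an fppf base change. -/
theorem exists_fppf_split (I : X.IdealSheafData) (d : ℕ) (h : Mor2.IsFinLocFreeOfDeg d (I.subschemeι ≫ f)) :
    ∃ (S' : Scheme.{u}) (b : S' ⟶ S), Flat b ∧ Surjective b ∧ LocallyOfFinitePresentation b ∧
      ∃ σ : Fin d → (S' ⟶ pullback f b), (∀ i, σ i ≫ pullback.snd f b = 𝟙 S') ∧
        (pullback.snd I.subschemeι (pullback.fst f b)).ker = ∏ i, (σ i).ker := by
  obtain ⟨T', g, hg1, hg2, hg3, x, hx, hxeq⟩ :=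
    exists_split f d (Over.mk (𝟙 S)) _ (isFinLocFreeOfDeg_comap f I h _)
  have hb : T'.hom = g.left := by simpa using (Over.w g).symm
  refine ⟨T'.left, T'.hom, ?_, ?_, ?_, fun i => graph f T' (x i) (hx i), fun i => graph_snd f T' (x i) (hx i), ?_⟩
  · rw [hb]; exact hg1
  · rw [hb]; exact hg2
  · rw [hb]; exact hg3
  · refine Eq.trans ?_ hxeq
    rw [HilbSh8.pull_eq_comap, ← Scheme.IdealSheafData.comap_comp,
      show PicF.XTmap f g ≫ pullback.fst f (Over.mk (𝟙 S)).hom = pullback.fst f T'.hom by simp [PicF.XTmap],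
      Scheme.IdealSheafData.comap, ← pullbackSymmetry_hom_comp_fst, Scheme.Hom.ker_comp_of_isIso]

end Groth.Agent.Stk19b.HilbCurve
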